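import Cfsg.Agent.Lib.M22Four66.Normaliser
import Cfsg.Agent.Lib.PGroup.Thompson

/-!
# Fusion in the torus and the orbits on its subgroups of order three
-/

set_option autoImplicit false

namespace Cfsg.Agent.Lib.M22Four66

open Cfsg Cfsg.Agent.Lib.ThreeTransp
attribute [local instance] Classical.propDecidable

theorem eq_of_mul_mul : ∀ a c c' : ZMod 3, a * (a * c') = c → a ≠ 0 → c = c' := by decide

variable {G : Type*} [Group G] [Finite G] {D : Set G}

namespace Reflect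

variable (R : Reflect D) {F : Type} [Field F] [Fintype F] (hC : M22Struct66.Counted D F)
  (hline : Fischer3T90.OneLine D)

omit [Finite G] in
theorem range_elementary : Cfsg.IsElementaryAbelian 3 R.φ.range := by
  refine ⟨⟨⟨fun a b => ?_⟩⟩, fun a ha => ?_⟩
  · obtain ⟨u, hu⟩ := R.exists_el a.2
    obtain ⟨v, hv⟩ := R.exists_el b.2
    apply Subtype.ext
    show (a : G) * b = b * a
    rw [hu, hv, (R.el_commute u v).eq]
  · obtain ⟨u, rfl⟩ := R.exists_el ha
    rw [el, ← map_pow, ← ofAdd_nsmul, show (3 : ℕ) • u = 0 from funext fun k => three_nsmul_zero (u k),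
      ofAdd_zero, map_one]

include R hC hline

/-- The Thompson subgroup of any Sylow 3-subgroup is a torus. -/
theorem exists_reflect_thompson (P : Sylow 3 G) :
    ∃ (R' : Reflect D), R'.φ.range = Cfsg.thompsonSubgroupOf 3 (P : Subgroup G) ∧
      ∀ B : Subgroup G, B ≤ (P : Subgroup G) → Cfsg.IsElementaryAbelian 3 B → 243 ≤ Nat.card B →
        B = R'.φ.range := by
  have hfact : Fact (Nat.Prime 3) := ⟨Nat.prime_three⟩
  obtain ⟨P₀, hP₀, hJ⟩ := R.exists_sylow_eq hC hline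
  obtain ⟨g, hg⟩ := MulAction.exists_smul_eq G P₀ P
  have hP : (P : Subgroup G) = (P₀ : Subgroup G).map (MulAut.conj g).toMonoidHom := by
    rw [← hg]; rfl
  obtain ⟨R', hR'⟩ := R.exists_conj_reflect hC.conj g
  refine ⟨R', ?_, fun B hBP hB hcard => ?_⟩
  · rw [hR', hP, Thompson.thompsonSubgroupOf_map (MulAut.conj g).injective, ← hJ]
  · have hle : B ≤ R'.φ.range := by
      intro b hb
      have hB0 : (B.map (MulAut.conj g⁻¹).toMonoidHom) ≤ R.φ.range := by
        refine R.le_range_of_elementary hC hline _ ?_ ?_ ?_ ?_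
        · rintro _ ⟨x, hx, rfl⟩
          have hxP := hBP hx
          rw [hP] at hxP
          obtain ⟨y, hy, rfl⟩ := hxP
          rw [← hP₀]
          show g⁻¹ * (g * y * g⁻¹) * g⁻¹⁻¹ ∈ (P₀ : Subgroup G)
          rwa [show g⁻¹ * (g * y * g⁻¹) * g⁻¹⁻¹ = y by group]
        · rintro _ ⟨x, hx, rfl⟩ _ ⟨y, hy, rfl⟩
          have h1 := congrArg Subtype.val (hB.1.is_comm.comm ⟨x, hx⟩ ⟨y, hy⟩)
          rw [← map_mul, ← map_mul]
          exact congrArg _ h1
        · rintro _ ⟨x, hx, rfl⟩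
          rw [← map_pow, hB.2 x hx, map_one]
        · rw [Subgroup.card_map_of_injective (MulAut.conj g⁻¹).injective]; exact hcard
      rw [hR']
      exact ⟨_, hB0 ⟨b, hb, rfl⟩, by show g * (g⁻¹ * b * g⁻¹⁻¹) * g⁻¹ = b; group⟩
    exact Subgroup.eq_of_le_of_card_ge hle (by rw [R'.card_range]; exact hcard)

/-- The normaliser controls fusion in the torus. -/
theorem fusion {a g : G} (ha : a ∈ R.φ.range) (hga : g * a * g⁻¹ ∈ R.φ.range) :
    ∃ n ∈ R.N₅, n * a * n⁻¹ = g * a * g⁻¹ := by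
  have hfact : Fact (Nat.Prime 3) := ⟨Nat.prime_three⟩
  set A := R.φ.range
  set C : Subgroup G := Subgroup.centralizer ({g * a * g⁻¹} : Set G)
  have hab := (R.range_elementary).1
  have hA1 : A ≤ C := fun x hx => Subgroup.mem_centralizer_singleton_iff.2
    (congrArg Subtype.val (hab.is_comm.comm ⟨x, hx⟩ ⟨_, hga⟩))
  have hA2 : A.map (MulAut.conj g).toMonoidHom ≤ C := by
    rintro _ ⟨x, hx, rfl⟩
    refine Subgroup.mem_centralizer_singleton_iff.2 ?_
    show g * x * g⁻¹ * (g * a * g⁻¹) = g * a * g⁻¹ * (g * x * g⁻¹)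
    exact (commute_conj_iff g).2 (congrArg Subtype.val (hab.is_comm.comm ⟨x, hx⟩ ⟨a, ha⟩) : x * a = a * x)
  have hcard : ∀ B : Subgroup G, B ≤ C → Nat.card (B.subgroupOf C) = Nat.card B := fun B hB =>
    Nat.card_congr (Subgroup.subgroupOfEquivOfLe hB).toEquiv
  have h243 : Nat.card A = 3 ^ 5 := by rw [R.card_range]; norm_num
  have hcm : Nat.card (A.map (MulAut.conj g).toMonoidHom) = Nat.card A :=
    Subgroup.card_map_of_injective (MulAut.conj g).injective
  obtain ⟨Q₁, hQ₁⟩ := (IsPGroup.of_card (p := 3) ((hcard A hA1).trans h243)).exists_le_sylow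
  obtain ⟨Q₂, hQ₂⟩ := (IsPGroup.of_card (p := 3) ((hcard _ hA2).trans (hcm.trans h243))).exists_le_sylow
  obtain ⟨h, hh⟩ := MulAction.exists_smul_eq C Q₂ Q₁
  set Q : Subgroup G := (Q₁ : Subgroup C).map C.subtype
  obtain ⟨P, hP⟩ := (Q₁.isPGroup'.map C.subtype).exists_le_sylow
  obtain ⟨R', -, huniq⟩ := R.exists_reflect_thompson hC hline P
  have hAP : A ≤ (P : Subgroup G) := fun x hx => hP ⟨⟨x, hA1 hx⟩, hQ₁ hx, rfl⟩
  have hA' : A = R'.φ.range := huniq A hAP R.range_elementary (by rw [R.card_range])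
  let n : G := (h : G) * g
  have hBP : A.map (MulAut.conj n).toMonoidHom ≤ (P : Subgroup G) := by
    rintro _ ⟨x, hx, rfl⟩
    refine hP ⟨h * ⟨g * x * g⁻¹, hA2 ⟨x, hx, rfl⟩⟩ * h⁻¹, ?_, by simp [n, mul_assoc]⟩
    rw [← hh]
    exact ⟨⟨g * x * g⁻¹, hA2 ⟨x, hx, rfl⟩⟩, hQ₂ (show g * x * g⁻¹ ∈ A.map _ from ⟨x, hx, rfl⟩), rfl⟩
  have hBA : A.map (MulAut.conj n).toMonoidHom = A := by
    rw [hA'] at hBP ⊢
    exact huniq _ hBP ⟨⟨⟨fun x y => by
        obtain ⟨x', hx', hxe⟩ := x.2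
        obtain ⟨y', hy', hye⟩ := y.2
        apply Subtype.ext
        show (x : G) * y = y * x
        rw [← hxe, ← hye, ← map_mul, ← map_mul]
        exact congrArg _ (congrArg Subtype.val (R'.range_elementary.1.is_comm.comm ⟨x', hx'⟩ ⟨y', hy'⟩))⟩⟩,
      fun x ⟨x', hx', hxe⟩ => by rw [← hxe, ← map_pow, R'.range_elementary.2 x' hx', map_one]⟩
      (by rw [Subgroup.card_map_of_injective (MulAut.conj n).injective, R'.card_range])
  refine ⟨n, R.mem_N₅ fun u => ?_, ?_⟩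
  · exact R.exists_el (hBA.le ⟨_, R.el_mem u, rfl⟩)
  · have hcomm : (g * a * g⁻¹) * (h : G) = (h : G) * (g * a * g⁻¹) :=
      (Subgroup.mem_centralizer_singleton_iff.1 h.2).symm
    show (h : G) * g * a * ((h : G) * g)⁻¹ = g * a * g⁻¹
    rw [mul_inv_rev, ← mul_assoc, mul_assoc (h : G) g a, mul_assoc (h : G) (g * a) g⁻¹, ← hcomm,
      mul_inv_cancel_right]

omit hC hline in
omit [Finite G] in
theorem zpowers_el_eq {u : V5} {z : G} (hz : z ∈ Subgroup.zpowers (R.el u)) :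
    ∃ c : ZMod 3, z = R.el (c • u) := by
  obtain ⟨k, rfl⟩ := Subgroup.mem_zpowers_iff.1 hz
  refine ⟨k, ?_⟩
  rw [el, el, ← map_zpow, Int.cast_smul_eq_zsmul, ofAdd_zsmul]

omit hC hline in
omit [Finite G] in
theorem card_zpowers_el {u : V5} (hu : u ≠ 0) : Nat.card (Subgroup.zpowers (R.el u)) = 3 := by
  rw [Nat.card_zpowers]
  exact orderOf_eq_prime (R.range_elementary.2 _ (R.el_mem u)) fun h => hu (R.el_inj (h.trans R.el_zero.symm))

/-- Three orbits on the subgroups of order three. -/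
theorem three_orbits : ∃ X₁ X₂ X₃ : Subgroup G, (∀ X ∈ [X₁, X₂, X₃], X ≤ R.φ.range ∧ Nat.card X = 3) ∧
    (∀ n ∈ R.N₅, X₁.map (MulAut.conj n).toMonoidHom ≠ X₂ ∧ X₁.map (MulAut.conj n).toMonoidHom ≠ X₃ ∧
      X₂.map (MulAut.conj n).toMonoidHom ≠ X₃) ∧
    ∀ X : Subgroup G, X ≤ R.φ.range → Nat.card X = 3 → ∃ n ∈ R.N₅, X.map (MulAut.conj n).toMonoidHom = X₁ ∨
      X.map (MulAut.conj n).toMonoidHom = X₂ ∨ X.map (MulAut.conj n).toMonoidHom = X₃ := by
  have hrep : ∀ c : ZMod 3, Unip.rep c ≠ 0 ∧ nrm (Unip.rep c) = c := by decide +kernel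
  set Y : ZMod 3 → Subgroup G := fun c => Subgroup.zpowers (R.el (Unip.rep c))
  have hY : ∀ c, Y c ≤ R.φ.range ∧ Nat.card (Y c) = 3 := fun c =>
    ⟨Subgroup.zpowers_le.2 (R.el_mem _), R.card_zpowers_el (hrep c).1⟩
  refine ⟨Y 1, Y 2, Y 0, ?_, fun n hn => ?_, fun X hX hXc => ?_⟩
  · simp only [List.mem_cons, List.not_mem_nil, or_false]
    rintro X (rfl | rfl | rfl)
    exacts [hY 1, hY 2, hY 0]
  · have key : ∀ c c' : ZMod 3, (Y c).map (MulAut.conj n).toMonoidHom = Y c' → c = c' := by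
      intro c c' h
      have h1 : n * R.el (Unip.rep c) * n⁻¹ ∈ Y c' := h ▸ ⟨_, Subgroup.mem_zpowers _, rfl⟩
      obtain ⟨k, hk⟩ := R.zpowers_el_eq h1
      have h2 := R.act5_eq (n := ⟨n, hn⟩) hk
      have h3 := R.act5_dotp hC hline ⟨n, hn⟩ (Unip.rep c) (Unip.rep c)
      rw [h2, dotp_smul_left, dotp_smul_right, ← nrm_eq_dotp, ← nrm_eq_dotp, (hrep c).2, (hrep c').2] at h3
      have hk0 : k ≠ 0 := fun h0 => by
        rw [h0, zero_smul, R.el_zero, conj_eq_one_iff, ← R.el_zero] at hk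
        exact (hrep c).1 (R.el_inj hk)
      exact eq_of_mul_mul _ _ _ h3 hk0
    exact ⟨fun h => absurd (key _ _ h) (by decide), fun h => absurd (key _ _ h) (by decide),
      fun h => absurd (key _ _ h) (by decide)⟩
  · have hne : X ≠ ⊥ := fun h => by rw [h, Subgroup.card_bot] at hXc; exact absurd hXc (by decide)
    obtain ⟨⟨x, hxX⟩, hx1⟩ := Subgroup.ne_bot_iff_exists_ne_one.1 hne
    obtain ⟨v, rfl⟩ := R.exists_el (hX hxX)
    have hv : v ≠ 0 := fun h => hx1 (Subtype.ext (by simp [h, R.el_zero]))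
    have hXeq : X = Subgroup.zpowers (R.el v) :=
      (Subgroup.eq_of_le_of_card_ge (Subgroup.zpowers_le.2 hxX) (by rw [hXc, R.card_zpowers_el hv])).symm
    have hm : X.map (MulAut.conj (R.avN (Unip.orbWord v) : G)⁻¹).toMonoidHom = Y (nrm v) := by
      rw [hXeq, MonoidHom.map_zpowers]
      congr 1
      show (R.avProd (Unip.orbWord v))⁻¹ * R.el v * (R.avProd (Unip.orbWord v))⁻¹⁻¹ = _
      have h1 := R.avProd_act (Unip.orbWord v) (Unip.rep (nrm v))
      rw [Unip.orb_spec hv] at h1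
      rw [← h1]
      group
    refine ⟨_, inv_mem (R.avN (Unip.orbWord v)).2, ?_⟩
    rcases (by decide : ∀ c : ZMod 3, c = 1 ∨ c = 2 ∨ c = 0) (nrm v) with h | h | h <;> rw [h] at hm
    exacts [Or.inl hm, Or.inr (Or.inl hm), Or.inr (Or.inr hm)]

end Reflect

end Cfsg.Agent.Lib.M22Four66
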