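import Mathlib

/-!
# Generated: words of reflections moving a vector to a representative
-/

set_option autoImplicit false

namespace Cfsg.Agent.Lib.M22Four66.Unip

/-- For each stage and vector, points whose reflections carry the basis vector there. -/
def stepW : List (List (List ℕ)) := [
  [[], [], [0], [11, 8], [], [], [7, 4], [], [], [11, 6], [], [], [], [], [], [], [], [], [9, 4], [], [], [], [], [], [], [], [], [11, 5], [], [], [], [], [], [], [], [], [], [], [], [], [11, 0], [4], [], [7, 0], [8], [], [], [], [], [9, 0], [6], [], [5, 0], [10], [10, 4], [], [], [], [], [], [], [], [], [], [], [], [], [10, 0], [5], [], [6, 0], [9], [], [], [], [], [8, 0], [7], [], [4, 0], [11], [], [], [], [], [15, 0], [12], [], [13, 0], [14], [], [19, 0], [16], [22, 4], [], [], [22, 8], [], [], [], [17, 0], [18], [22, 6], [], [], [22, 10], [], [], [], [23, 0], [20], [18, 4], [], [], [18, 8], [], [], [14, 4], [], [], [], [], [], [], [], [], [14, 6], [], [], [], [], [], [], [], [], [], [21, 0], [22], [18, 5], [], [], [18, 9], [], [], [14, 5], [], [], [], [], [], [], [], [], [14, 7], [], [], [],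 [], [], [], [], [], [], [], [], [], [14, 0], [13], [], [12, 0], [15], [], [18, 0], [17], [23, 4], [], [], [23, 8], [], [], [], [16, 0], [19], [23, 6], [], [], [23, 10], [], [], [], [22, 0], [21], [19, 4], [], [], [19, 8], [], [], [15, 4], [], [], [], [], [], [], [], [], [15, 6], [], [], [], [], [], [], [], [], [], [20, 0], [23], [19, 5], [], [], [19, 9], [], [], [15, 5], [], [], [], [], [], [], [], [], [15, 7], [], [], [], [], [], [], [], []],
  [[], [], [], [], [], [], [1], [], [], [27, 26], [], [], [], [], [], [], [], [], [25, 24], [], [], [], [], [], [], [], [], [31, 30], [], [], [], [], [], [], [], [], [], [], [], [], [], [], [], [], [], [], [], [], [], [], [], [], [], [], [29, 28], [], [], [], [], [], [], [], [], [], [], [], [], [], [], [], [], [], [], [], [], [], [], [], [], [], [], [], [], [], [], [], [], [], [], [], [], [], [], [27, 1], [], [], [24], [], [], [], [], [], [25, 1], [], [], [26], [], [], [], [], [], [31, 1], [], [], [28], [], [], [29, 25], [], [], [], [], [], [], [], [], [29, 27], [], [], [], [], [], [], [], [], [], [], [], [29, 1], [], [], [30], [], [], [31, 25],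 [], [], [], [], [], [], [], [], [31, 27], [], [], [], [], [], [], [], [], [], [], [], [], [], [], [], [], [], [], [], [], [26, 1], [], [], [25], [], [], [], [], [], [24, 1], [], [], [27], [], [], [], [], [], [30, 1], [], [], [29], [], [], [28, 24], [], [], [], [], [], [], [], [], [28, 26], [], [], [], [], [], [], [], [], [], [], [], [28, 1], [], [], [31], [], [], [30, 24], [], [], [], [], [], [], [], [], [30, 26], [], [], [], [], [], [], [], []],
  [[], [], [], [], [], [], [], [], [], [], [], [], [], [], [], [], [], [], [2], [], [], [], [], [], [], [], [], [35, 34], [], [], [], [], [], [], [], [], [], [], [], [], [], [], [], [], [], [], [], [], [], [], [], [], [], [], [33, 32], [], [], [], [], [], [], [], [], [], [], [], [], [], [], [], [], [], [], [], [], [], [], [], [], [], [], [], [], [], [], [], [], [], [], [], [], [], [], [], [], [], [], [], [], [], [], [], [], [], [], [], [], [], [], [], [], [], [], [], [], [], [], [35, 2], [], [], [], [], [], [], [], [], [32], [], [], [], [], [], [], [], [], [], [], [], [], [], [], [], [], [], [33, 2], [], [], [], [], [], [], [], [], [34], [],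 [], [], [], [], [], [], [], [], [], [], [], [], [], [], [], [], [], [], [], [], [], [], [], [], [], [], [], [], [], [], [], [], [], [], [], [], [], [], [], [], [], [], [], [34, 2], [], [], [], [], [], [], [], [], [33], [], [], [], [], [], [], [], [], [], [], [], [], [], [], [], [], [], [32, 2], [], [], [], [], [], [], [], [], [35], [], [], [], [], [], [], [], []],
  [[], [], [], [], [], [], [], [], [], [], [], [], [], [], [], [], [], [], [], [], [], [], [], [], [], [], [], [], [], [], [], [], [], [], [], [], [], [], [], [], [], [], [], [], [], [], [], [], [], [], [], [], [], [], [3], [], [], [], [], [], [], [], [], [], [], [], [], [], [], [], [], [], [], [], [], [], [], [], [], [], [], [], [], [], [], [], [], [], [], [], [], [], [], [], [], [], [], [], [], [], [], [], [], [], [], [], [], [], [], [], [], [], [], [], [], [], [], [], [], [], [], [], [], [], [], [], [], [], [], [], [], [], [], [], [], [], [], [], [], [], [], [], [], [], [], [], [], [], [], [], [], [], [], [], [], [], [], [], [], [], [], [], [], [], [], [], [], [], [], [], [], [], [], [], [], [], [], [], [], [], [], [],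 [], [], [], [], [], [], [], [], [], [], [], [], [], [], [], [], [], [], [], [], [], [], [], [], [], [], [], [], [], [], [], [], [], [], [], [], [], [], [], [], [], [], [], [], [], [], [], [], [], [], [], [], [], [], [], [], [], [], [], [], []]]

/-- For each vector, points whose reflections carry the representative of its norm there. -/
def orbW : List (List ℕ) := [[], [], [0], [11, 8], [13], [14], [7, 4], [15], [12], [11, 6], [17], [18], [25], [25], [25, 0], [26], [26], [26, 0], [9, 4], [19], [16], [27], [27], [27, 0], [24], [24], [24, 0], [11, 5], [21], [22], [29], [29], [29, 0], [30], [30], [30, 0], [33], [33], [33, 0], [23, 5], [11, 0], [4], [13, 4], [7, 0], [8], [34], [34], [34, 0], [17, 4], [9, 0], [6], [13, 6], [5, 0], [10], [10, 4], [23], [20], [31], [31], [31, 0], [28], [28], [28, 0], [35], [35], [35, 0], [21, 4], [10, 0], [5], [13, 5], [6, 0], [9], [32], [32], [32, 0], [17, 5], [8, 0], [7], [13, 7], [4, 0], [11], [], [], [0], [11, 8], [15, 0], [12], [7, 4], [13, 0], [14], [11, 6], [19, 0], [16], [22, 4], [19, 14], [27, 12], [22, 8], [19, 12], [24, 14], [9, 4], [17, 0], [18],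 [22, 6], [17, 14], [25, 12], [22, 10], [17, 12], [26, 14], [11, 5], [23, 0], [20], [18, 4], [23, 14], [31, 12], [18, 8], [23, 12], [28, 14], [14, 4], [23, 18], [35, 16], [31, 26], [11, 0], [4], [35, 24], [7, 0], [8], [14, 6], [23, 16], [32, 18], [31, 24], [9, 0], [6], [32, 26], [5, 0], [10], [10, 4], [21, 0], [22], [18, 5], [21, 14], [29, 12], [18, 9], [21, 12], [30, 14], [14, 5], [21, 18], [33, 16], [29, 26], [10, 0], [5], [33, 24], [6, 0], [9], [14, 7], [21, 16], [34, 18], [29, 24], [8, 0], [7], [34, 26], [4, 0], [11], [13, 12], [25, 24], [25, 24, 0], [15], [14, 0], [13], [13], [12, 0], [15], [19], [18, 0], [17], [23, 4], [18, 14], [26, 12], [23, 8], [18, 12], [25, 14], [17], [16, 0], [19], [23, 6], [16, 14], [24, 12], [23, 10], [16, 12], [27, 14], [23], [22, 0], [21], [19, 4], [22, 14], [30, 12], [19, 8], [22, 12], [29, 14], [15, 4], [22, 18], [34, 16], [30, 26], [21, 5], [33, 7], [34, 24], [15, 4], [30, 5], [15, 6], [22, 16], [33, 18], [30, 24], [19, 4], [34, 5], [33, 26], [15, 6], [24, 4], [21], [20, 0], [23], [19, 5], [20, 14], [28, 12], [19, 9], [20, 12], [31, 14], [15, 5],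 [20, 18], [32, 16], [28, 26], [23, 4], [35, 6], [32, 24], [15, 5], [28, 4], [15, 7], [20, 16], [35, 18], [28, 24], [19, 5], [32, 4], [35, 26], [15, 7], [24, 5]]

end Cfsg.Agent.Lib.M22Four66.Unip
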