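import Cfsg.Agent.Lib.M22Four66.Unip
import Cfsg.Agent.Lib.M22Four66.WittData

/-!
# Witt's theorem in the five-dimensional space, by reflections in vectors of norm one
-/

set_option autoImplicit false
set_option maxRecDepth 30000
set_option Elab.async false

namespace Cfsg.Agent.Lib.M22Four66.Unip

/-- The stage word of a vector. -/
def stepWord (k : Fin 4) (v : V5) : List ℕ := (stepW.getD k []).getD (enc v) []

/-- The orbit word of a vector. -/
def orbWord (v : V5) : List ℕ := orbW.getD (enc v) []

/-- The representative of a norm. -/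
def rep (c : ZMod 3) : V5 := if c = 1 then pts 0 else if c = 2 then xvec else ![1, 0, 0, 0, 1]

/-- The first four points. -/
def bpt (j : ℕ) : V5 := pts (Fin.ofNat 36 j)

theorem step_ok : ∀ k : Fin 4, ((List.range 243).all fun n =>
    (!(nrm (dec n) == 1 && (List.range k).all fun j => dotp (dec n) (bpt j) == 0)) ||
      ((enc (comp ((stepW.getD k []).getD n []) (bpt k)) == n) &&
        ((stepW.getD k []).getD n []).all fun i =>
          (List.range k).all fun j => dotp (pts (Fin.ofNat 36 i)) (bpt j) == 0)) = true := by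
  decide +kernel

theorem orb_ok : ((List.range 243).all fun n =>
    n == 0 || enc (comp (orbW.getD n []) (rep (nrm (dec n)))) == n) = true := by decide +kernel

theorem step_spec (k : Fin 4) {v : V5} (h1 : nrm v = 1) (h2 : ∀ j < (k : ℕ), dotp v (bpt j) = 0) :
    comp (stepWord k v) (bpt k) = v ∧
      ∀ i ∈ stepWord k v, ∀ j < (k : ℕ), dotp (pts (Fin.ofNat 36 i)) (bpt j) = 0 := by
  have h := List.all_eq_true.1 (step_ok k) (enc v) (List.mem_range.2 (enc_lt v))
  simp only [Bool.or_eq_true, Bool.and_eq_true, List.all_eq_true, List.mem_range, beq_iff_eq, Bool.not_eq_true',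
    dec_enc] at h
  obtain ⟨h3, h4⟩ := h.resolve_left (by
    rw [Bool.not_eq_false]
    simp only [Bool.and_eq_true, List.all_eq_true, List.mem_range, beq_iff_eq]
    exact ⟨h1, h2⟩)
  refine ⟨?_, h4⟩
  rw [← dec_enc (comp (stepWord k v) (bpt k))]
  show dec (enc (comp ((stepW.getD k []).getD (enc v) []) (bpt k))) = v
  rw [h3, dec_enc]

theorem orb_spec {v : V5} (hv : v ≠ 0) : comp (orbWord v) (rep (nrm v)) = v := by
  have h := List.all_eq_true.1 orb_ok (enc v) (List.mem_range.2 (enc_lt v))
  simp only [Bool.or_eq_true, beq_iff_eq, dec_enc] at h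
  have h0 : enc v ≠ 0 := fun e => hv (by rw [← dec_enc v, e]; decide)
  rw [← dec_enc (comp (orbWord v) (rep (nrm v)))]
  show dec (enc (comp (orbW.getD (enc v) []) (rep (nrm v)))) = v
  rw [h.resolve_left h0, dec_enc]

theorem comp_fix {u : V5} : ∀ w : List ℕ, (∀ i ∈ w, dotp (pts (Fin.ofNat 36 i)) u = 0) → comp w u = u
  | [], _ => rfl
  | i :: w, h => by
    show sref (pts (Fin.ofNat 36 i)) (comp w u) = u
    rw [comp_fix w fun j hj => h j (List.mem_cons_of_mem _ hj), sref, dotp_comm, h i (List.mem_cons_self ..),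
      zero_smul, add_zero]

end Cfsg.Agent.Lib.M22Four66.Unip
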