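import Cfsg.Agent.Lib.M22Four66.Thompson
import Cfsg.Agent.Lib.M22Four66.Outside
import Cfsg.Agent.Lib.M22Four66.Coords
import Cfsg.Agent.Lib.M22Four66.Witt
import Cfsg.Agent.Lib.Orth.Basic

/-!
# The normaliser of the torus: the reflection group of the five-dimensional space
-/

set_option autoImplicit false

namespace Cfsg.Agent.Lib.M22Four66

open Cfsg Cfsg.Agent.Lib.ThreeTransp
attribute [local instance] Classical.propDecidable

/-- The form on the coordinates. -/
noncomputable def formFive : QuadraticForm (ZMod 3) V5 :=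
  LinearMap.BilinMap.toQuadraticMap (LinearMap.mk₂ (ZMod 3) dotp dotp_add_left
    (fun a v w => dotp_smul_left a v w) dotp_add_right fun a v w => dotp_smul_right a v w)

theorem formFive_apply (v : V5) : formFive v = nrm v := rfl

theorem polar_five (v w : V5) : QuadraticMap.polar ⇑formFive v w = 2 * dotp v w := by
  simp only [QuadraticMap.polar, formFive_apply, nrm_eq_dotp, dotp_add_left, dotp_add_right, dotp_comm w v]
  ring

theorem formFive_nondegenerate : (QuadraticMap.polarBilin formFive).Nondegenerate := by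
  have hz : ∀ u : V5, (∀ v, QuadraticMap.polar ⇑formFive u v = 0) → u = 0 := fun u hu =>
    eq_zero_of_orth u fun j => by
      have := hu (pts j)
      rw [polar_five] at this
      exact (mul_eq_zero.1 this).resolve_left (by decide)
  exact ⟨fun u hu => hz u hu, fun u hu => hz u fun v => (QuadraticMap.polar_comm _ _ _).trans (hu v)⟩

theorem formFive_det : Cfsg.polarGramDet ⇑formFive = 1 := by
  have h : (Matrix.of fun i j : Fin 5 => QuadraticMap.polar (⇑formFive) (Pi.single i (1 : ZMod 3)) (Pi.single j 1)) =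
      Matrix.diagonal ![(2 : ZMod 3), 2, 2, 2, 1] := by
    ext i j
    rw [Matrix.of_apply, polar_five]
    fin_cases i <;> fin_cases j <;> simp [dotp] <;> decide
  rw [Cfsg.polarGramDet, h, Matrix.det_diagonal, Fin.prod_univ_five]
  decide

theorem reflection_five {v : V5} (hv : nrm v = 1) (x : V5) :
    (Cfsg.reflectionMatrix (⇑formFive) v).mulVec x = sref v x := by
  rw [Orth.reflectionMatrix_mulVec, Orth.reflFun, polar_five, formFive_apply, hv, inv_one, one_mul, dotp_comm v x,
    sub_eq_add_neg, ← neg_smul, sref]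
  congr 2
  generalize dotp x v = d
  revert d
  decide

theorem neg_eq_add_three : ∀ p q : ZMod 3, -p = p + q → p = q := by decide

variable {G : Type*} [Group G] [Finite G] {D : Set G}

namespace Reflect

variable (R : Reflect D) {F : Type} [Field F] [Fintype F]

/-- The normaliser of the torus. -/
abbrev N₅ : Subgroup G := Subgroup.normalizer (R.φ.range : Set G)

omit [Finite G] in
theorem exists_img (n : R.N₅) (u : V5) : ∃ v, (n : G) * R.el u * (n : G)⁻¹ = R.el v :=
  R.exists_el ((Subgroup.mem_normalizer_iff.1 n.2 _).1 (R.el_mem u))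

theorem mem_N₅ {g : G} (h : ∀ u, ∃ v, g * R.el u * g⁻¹ = R.el v) : g ∈ R.N₅ := by
  have hle : R.φ.range.map (MulAut.conj g).toMonoidHom ≤ R.φ.range := by
    rintro _ ⟨x, hx, rfl⟩
    obtain ⟨u, rfl⟩ := R.exists_el hx
    obtain ⟨v, hv⟩ := h u
    show g * R.el u * g⁻¹ ∈ R.φ.range
    rw [hv]
    exact R.el_mem v
  have heq : R.φ.range.map (MulAut.conj g).toMonoidHom = R.φ.range :=
    Subgroup.eq_of_le_of_card_ge hle (by rw [Subgroup.card_map_of_injective (MulAut.conj g).injective])
  rw [Subgroup.mem_normalizer_iff]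
  intro x
  constructor
  · exact fun hx => heq ▸ ⟨x, hx, rfl⟩
  · intro hx
    rw [← heq] at hx
    obtain ⟨y, hy, hye⟩ := hx
    rwa [← (MulAut.conj g).injective hye]

/-- The action on the coordinates. -/
noncomputable def img5 (n : R.N₅) (u : V5) : V5 := (R.exists_img n u).choose

omit [Finite G] in
theorem img5_spec (n : R.N₅) (u : V5) : (n : G) * R.el u * (n : G)⁻¹ = R.el (R.img5 n u) :=
  (R.exists_img n u).choose_spec

/-- The action as a linear map. -/
noncomputable def act5 (n : R.N₅) : V5 →ₗ[ZMod 3] V5 :=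
  AddMonoidHom.toZModLinearMap 3 (AddMonoidHom.mk' (R.img5 n) fun u v => R.el_inj (by
    rw [← R.img5_spec, R.el_add, R.el_add, ← R.img5_spec, ← R.img5_spec, conj_mul]))

omit [Finite G] in
theorem act5_spec (n : R.N₅) (u : V5) : (n : G) * R.el u * (n : G)⁻¹ = R.el (R.act5 n u) := R.img5_spec n u

omit [Finite G] in
theorem act5_eq {n : R.N₅} {u v : V5} (h : (n : G) * R.el u * (n : G)⁻¹ = R.el v) : R.act5 n u = v :=
  R.el_inj ((R.act5_spec n u).symm.trans h)

omit [Finite G] in
theorem act5_mul (n m : R.N₅) (u : V5) : R.act5 (n * m) u = R.act5 n (R.act5 m u) := by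
  refine R.act5_eq ?_
  rw [← R.act5_spec, ← R.act5_spec]
  simp only [Subgroup.coe_mul]
  group

theorem avProd_mem (w : List ℕ) : R.avProd w ∈ R.N₅ := R.mem_N₅ fun u => ⟨_, R.avProd_act w u⟩

/-- The product of reflecting members in the normaliser. -/
noncomputable def avN (w : List ℕ) : R.N₅ := ⟨R.avProd w, R.avProd_mem w⟩

theorem act5_avN (w : List ℕ) (u : V5) : R.act5 (R.avN w) u = Unip.comp w u := R.act5_eq (R.avProd_act w u)

variable (hC : M22Struct66.Counted D F) (hline : Fischer3T90.OneLine D)
include hC hline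

/-- The normaliser permutes the points of norm one and keeps the form. -/
theorem act5_dotp (n : R.N₅) (u v : V5) : dotp (R.act5 n u) (R.act5 n v) = dotp u v := by
  have hinj : Function.Injective (R.act5 n) := fun a b h => R.el_inj (mul_left_cancel (mul_right_cancel
    ((R.act5_spec n a).trans ((congrArg R.el h).trans (R.act5_spec n b).symm))))
  have hpt : ∀ (i : Fin 36) (u : V5), dotp (R.act5 n u) (R.act5 n (pts i)) = dotp u (pts i) := by
    intro i
    set y := (n : G) * R.av i * (n : G)⁻¹ with hy
    have hyD : y ∈ D := hC.conj _ _ (R.av_mem i)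
    have hyact : ∀ u, y * R.el (R.act5 n u) * y⁻¹ = R.el (R.act5 n (sref (pts i) u)) := fun u => by
      rw [← R.act5_spec, ← R.act5_spec, hy]
      calc _ = (n : G) * (R.av i * R.el u * (R.av i)⁻¹) * (n : G)⁻¹ := by group
        _ = _ := by rw [R.av_act, mul_inv_cancel_right]
    have hl : y ∈ R.lines := by
      by_contra hout
      have hmult : ∀ u, dotp u (pts i) = 0 → ∃ (j : Fin 36) (k : ZMod 3), R.act5 n u = k • pts j := fun u hu => by
        refine R.outside hC hline hyD hout ?_
        have h1 := hyact u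
        rw [sref, hu, zero_smul, add_zero] at h1
        exact mul_inv_eq_iff_eq_mul.1 h1
      have h1 : ((Finset.univ.filter fun u : V5 => dotp u (pts i) = 0).image (R.act5 n)) ⊆
          (Finset.univ : Finset (Fin 36 × ZMod 3)).image fun p => p.2 • pts p.1 := by
        intro z hz
        obtain ⟨u, hu, rfl⟩ := Finset.mem_image.1 hz
        obtain ⟨j, k, hk⟩ := hmult u (Finset.mem_filter.1 hu).2
        exact Finset.mem_image.2 ⟨(j, k), Finset.mem_univ _, hk.symm⟩
      have h2 := Finset.card_le_card h1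
      rw [Finset.card_image_of_injective _ hinj] at h2
      have h3 : ((Finset.univ : Finset (Fin 36 × ZMod 3)).image fun p => p.2 • pts p.1).card ≤ 73 := by
        decide +kernel
      have h4 : ∀ i : Fin 36, (Finset.univ.filter fun u : V5 => dotp u (pts i) = 0).card = 81 := by decide +kernel
      have h4' := h4 i
      omega
    obtain ⟨j, k, hjk⟩ := R.mem_lines.1 hl
    have hs : ∀ u, R.act5 n (sref (pts i) u) = sref (pts j) (R.act5 n u) := fun u =>
      R.el_inj (by rw [← hyact, ← hjk, R.mb_act])
    have hw := hs (pts i)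
    have hsi : sref (pts i) (pts i) = -pts i := by
      rw [sref, show dotp (pts i) (pts i) = 1 from nrm_pts i, one_smul]
      funext a
      simp only [Pi.add_apply, Pi.neg_apply]
      generalize pts i a = b
      revert b
      decide
    rw [hsi, map_neg, sref] at hw
    set w := R.act5 n (pts i) with hwdef
    set d := dotp w (pts j)
    have hwd : w = d • pts j := by
      funext a
      have h1 := congrFun hw a
      simp only [Pi.add_apply, Pi.neg_apply, Pi.smul_apply, smul_eq_mul] at h1 ⊢
      exact neg_eq_add_three _ _ h1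
    have hd : d ≠ 0 := fun h0 => by
      rw [h0, zero_smul] at hwd
      have h5 := hinj (hwd.trans (map_zero (R.act5 n)).symm)
      have h6 := nrm_pts i
      rw [h5] at h6
      exact absurd h6 (by decide)
    intro u
    have h1 := hs u
    rw [sref, map_add, map_smul, sref, add_right_inj, ← hwdef, hwd, smul_smul] at h1
    have h2 := congrArg (fun z => dotp z (pts j)) h1
    simp only [dotp_smul_left, show dotp (pts j) (pts j) = 1 from nrm_pts j, mul_one] at h2
    rw [hwd, dotp_smul_right, ← h2]
    revert hd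
    generalize dotp u (pts i) = a
    generalize d = b
    revert a b
    decide
  have hx : xvec = pts 12 + (-1 : ZMod 3) • pts 0 + (-1 : ZMod 3) • pts 1 := by decide +kernel
  have hxd : ∀ u, dotp (R.act5 n u) (R.act5 n xvec) = dotp u xvec := fun u => by
    rw [hx]
    simp only [map_add, map_smul, dotp_add_right, dotp_smul_right, hpt]
  have hdec : v = v 0 • pts 0 + v 1 • pts 1 + v 2 • pts 2 + v 3 • pts 3 + v 4 • xvec := by
    refine forall_vec
      (P := fun v => v = v 0 • pts 0 + v 1 • pts 1 + v 2 • pts 2 + v 3 • pts 3 + v 4 • xvec) ?_ v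
    decide +kernel
  rw [hdec]
  simp only [map_add, map_smul, dotp_add_right, dotp_smul_right, hpt, hxd]

/-- The normaliser is generated by the reflecting members over the torus. -/
theorem exists_word (n : R.N₅) : ∃ w : List ℕ, (R.avProd w)⁻¹ * (n : G) ∈ R.φ.range := by
  have key : ∀ k : ℕ, k ≤ 4 → ∃ w : List ℕ, ∀ j < k, R.act5 ((R.avN w)⁻¹ * n) (Unip.bpt j) = Unip.bpt j := by
    intro k hk
    induction k with
    | zero => exact ⟨[], fun j hj => absurd hj (Nat.not_lt_zero j)⟩
    | succ k ih =>
      obtain ⟨w, hw⟩ := ih (by omega)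
      set m := (R.avN w)⁻¹ * n
      set v := R.act5 m (Unip.bpt k) with hv
      have hb : ∀ a < 4, ∀ b < 4, dotp (Unip.bpt a) (Unip.bpt b) = if a = b then 1 else 0 := by decide +kernel
      have h1 : nrm v = 1 := by
        rw [nrm_eq_dotp, hv, R.act5_dotp hC hline, hb k (by omega) k (by omega), if_pos rfl]
      have h2 : ∀ j < k, dotp v (Unip.bpt j) = 0 := fun j hj => by
        rw [← hw j hj, hv, R.act5_dotp hC hline, hb k (by omega) j (by omega), if_neg (by omega)]
      obtain ⟨hs1, hs2⟩ := Unip.step_spec ⟨k, by omega⟩ h1 h2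
      set w' := Unip.stepWord ⟨k, by omega⟩ v
      have hfix : ∀ j < k, Unip.comp w' (Unip.bpt j) = Unip.bpt j := fun j hj =>
        Unip.comp_fix w' fun i hi => hs2 i hi j hj
      refine ⟨w ++ w', fun j hj => ?_⟩
      have hap : R.avN (w ++ w') = R.avN w * R.avN w' := Subtype.ext (by simp [avN, avProd])
      rw [hap, mul_inv_rev, mul_assoc, R.act5_mul]
      have hback : ∀ z, R.act5 (R.avN w')⁻¹ (Unip.comp w' z) = z := fun z => by
        rw [← R.act5_avN, ← R.act5_mul, inv_mul_cancel]
        exact R.act5_eq (by simp)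
      rcases Nat.lt_succ_iff_lt_or_eq.1 hj with h | rfl
      · rw [hw j h]
        conv_lhs => rw [← hfix j h]
        rw [hback]
      · show R.act5 (R.avN w')⁻¹ v = _
        rw [← hs1]
        exact hback _
  obtain ⟨w, hw⟩ := key 4 le_rfl
  refine ⟨w, R.mem_range_of_fix_four hC hline fun i hi k => ?_⟩
  have h1 : R.act5 ((R.avN w)⁻¹ * n) (pts i) = pts i := by
    have := hw i hi
    rwa [show Unip.bpt i = pts i by rw [Unip.bpt, Fin.ofNat_eq_cast, Fin.cast_val_eq_self]] at this
  have h2 := R.act5_spec ((R.avN w)⁻¹ * n) (k • pts i)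
  rwa [map_smul, h1] at h2

/-- The matrices of the action. -/
noncomputable def mat5 (n : R.N₅) : Matrix (Fin 5) (Fin 5) (ZMod 3) := LinearMap.toMatrix' (R.act5 n)

omit hC hline in
omit [Finite G] in
theorem mat5_mulVec (n : R.N₅) (v : V5) : (R.mat5 n).mulVec v = R.act5 n v := by
  rw [mat5, LinearMap.toMatrix'_mulVec]

omit hC hline in
omit [Finite G] in
theorem mat5_one : R.mat5 1 = 1 := by
  refine Matrix.ext_iff_mulVec.2 fun v => ?_
  rw [mat5_mulVec, Matrix.one_mulVec]
  exact R.act5_eq (by simp)

omit hC hline in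
omit [Finite G] in
theorem mat5_mul (n m : R.N₅) : R.mat5 (n * m) = R.mat5 n * R.mat5 m := by
  refine Matrix.ext_iff_mulVec.2 fun v => ?_
  rw [← Matrix.mulVec_mulVec, mat5_mulVec, mat5_mulVec, mat5_mulVec, R.act5_mul]

omit hC hline in
/-- The action as invertible matrices. -/
noncomputable def gl5 : R.N₅ →* Matrix.GeneralLinearGroup (Fin 5) (ZMod 3) :=
  MonoidHom.toHomUnits ⟨⟨R.mat5, R.mat5_one⟩, R.mat5_mul⟩

theorem gl5_mem (n : R.N₅) : R.gl5 n ∈ Cfsg.isometryGroup (ZMod 3) ⇑formFive := by
  rw [Orth.mem_isometryGroup_iff]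
  intro v
  show formFive ((R.mat5 n).mulVec v) = formFive v
  rw [mat5_mulVec, formFive_apply, formFive_apply, nrm_eq_dotp, nrm_eq_dotp, R.act5_dotp hC hline]

/-- The action as isometries. -/
noncomputable def rho5 : R.N₅ →* ↥(Cfsg.isometryGroup (ZMod 3) ⇑formFive) :=
  (R.gl5).codRestrict _ (R.gl5_mem hC hline)

theorem rho5_mulVec (n : R.N₅) (v : V5) : (R.rho5 hC hline n).1.1.mulVec v = R.act5 n v := R.mat5_mulVec n v

theorem rho5_ker : (R.rho5 hC hline).ker = R.φ.range.subgroupOf R.N₅ := by
  ext n
  rw [MonoidHom.mem_ker, Subgroup.mem_subgroupOf]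
  constructor
  · intro hn
    refine R.mem_range_of_centralize hC hline fun u => ?_
    have h1 := R.rho5_mulVec hC hline n u
    rw [hn, show ((1 : ↥(Cfsg.isometryGroup (ZMod 3) ⇑formFive)).1.1) = 1 from rfl, Matrix.one_mulVec] at h1
    rw [R.act5_spec, ← h1]
  · intro hn
    obtain ⟨u, hu⟩ := R.exists_el hn
    refine Subtype.ext (Units.ext (Matrix.ext_iff_mulVec.2 fun v => ?_))
    rw [R.rho5_mulVec hC hline]
    show _ = (1 : Matrix (Fin 5) (Fin 5) (ZMod 3)).mulVec v
    rw [Matrix.one_mulVec]
    exact R.act5_eq (by rw [hu, (R.el_commute u v).eq, mul_inv_cancel_right])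

theorem rho5_avN (w : List ℕ) : R.rho5 hC hline (R.avN w) ∈ Cfsg.reflectionSubgroup (⇑formFive) 1 := by
  induction w with
  | nil =>
    rw [show R.avN [] = 1 from Subtype.ext (by simp [avN, avProd]), map_one]
    exact one_mem _
  | cons i w ih =>
    rw [show R.avN (i :: w) = R.avN [i] * R.avN w from Subtype.ext (by simp [avN, avProd]), map_mul]
    refine mul_mem (Subgroup.subset_closure ⟨pts (Fin.ofNat 36 i), ?_, ?_⟩) ih
    · rw [formFive_apply, nrm_pts]
    · refine Matrix.ext_iff_mulVec.2 fun v => ?_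
      rw [reflection_five (nrm_pts _)]
      exact (R.rho5_mulVec hC hline _ v).trans (R.act5_avN _ v)

theorem rho5_range : (R.rho5 hC hline).range = Cfsg.reflectionSubgroup (⇑formFive) 1 := by
  apply le_antisymm
  · rintro _ ⟨n, rfl⟩
    obtain ⟨w, hw⟩ := R.exists_word hC hline n
    have h1 : (R.avN w)⁻¹ * n ∈ (R.rho5 hC hline).ker := by
      rw [R.rho5_ker hC hline]
      exact hw
    rw [MonoidHom.mem_ker, map_mul, map_inv, inv_mul_eq_one] at h1
    exact h1 ▸ R.rho5_avN hC hline w
  · rw [Cfsg.reflectionSubgroup, Subgroup.closure_le]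
    rintro g ⟨v, hv, hg⟩
    rw [formFive_apply] at hv
    obtain ⟨a, b, -, -, -, -, hact⟩ := R.refl v hv
    refine ⟨⟨a, R.mem_N₅ fun u => ⟨_, hact u⟩⟩, Subtype.ext (Units.ext (Matrix.ext_iff_mulVec.2 fun x => ?_))⟩
    rw [R.rho5_mulVec hC hline, hg, reflection_five hv]
    exact R.act5_eq (hact x)

/-- The normaliser modulo the torus is the reflection group. -/
theorem quotient_five : ∃ _ : (R.φ.range.subgroupOf R.N₅).Normal,
    Cfsg.IsReflectionGroupModThree (↥R.N₅ ⧸ R.φ.range.subgroupOf R.N₅) 5 1 1 := by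
  have hN : (R.φ.range.subgroupOf R.N₅).Normal := R.rho5_ker hC hline ▸ inferInstance
  refine ⟨hN, formFive, formFive_nondegenerate, formFive_det, ⟨?_⟩⟩
  exact ((QuotientGroup.quotientMulEquivOfEq (R.rho5_ker hC hline).symm).trans
    (QuotientGroup.quotientKerEquivRange _)).trans (MulEquiv.subgroupCongr (R.rho5_range hC hline))

end Reflect

end Cfsg.Agent.Lib.M22Four66
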